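import Mathlib
import Groth.Prelude.Def_ModelsG
import Groth.Agent.Lib.SurfFactor85.Exc
import Groth.Agent.Lib.SurfFactor85.Seq
import Groth.Agent.Lib.SurfFactor85.Plane
import Groth.Agent.Lib.ProjSpace.Dim

/-!
# The exceptional divisor of a point blow-up as a scheme over the point
-/

set_option autoImplicit false
universe u

open CategoryTheory CategoryTheory.Limits AlgebraicGeometry TopologicalSpace IsLocalRing

set_option linter.style.haveILetI false

namespace Groth.Agent.Lib.PointExc74

open Groth.Agent.Lib Groth.Agent.Lib.Ideal.Prime Groth.Agent.Lib.CartierDescent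
open Groth.Agent.Lib.SurfFactor85 Groth.Agent.Lib.SurfFactor85.Exc

section
variable {A : Type u} [CommRing A] [IsRegularLocalRing A] {X : Scheme.{u}}
  {b : X ⟶ Spec (CommRingCat.of A)}

local notation "𝓜" => Curv2.idealSheaf A (IsLocalRing.maximalIdeal A)

theorem local_iso (hA : ringKrullDim A = 2) (hb : BlowUp.IsBlowUp b 𝓜) :
    ∃ h : (BlowUp.exceptional b 𝓜).subscheme ≅ CohB1.ProjSpace 1 (ResidueField A),
      h.hom ≫ CohB1.ProjSpace.toSpec 1 (ResidueField A) ≫ Spec.map (CommRingCat.ofHom (IsLocalRing.residue A)) =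
        (BlowUp.exceptional b 𝓜).subschemeι ≫ b := by
  haveI := PointBlow85.isIntegral hA hb
  haveI : IsDomain A := Regular.Quotient.isDomain A
  obtain ⟨a, -, ha⟩ := PointBlow85.exists_top_params (A := A) hA
  obtain ⟨r, hr, hrb, ⟨τ⟩⟩ := Plane.exists_closedImmersion' (n := 1) 𝓜 a ha.symm b hb
  haveI := hr
  haveI : IsProper b := BlowUpExists.isProper_of_isBlowUp hb fun U => by
    haveI : IsNoetherianRing Γ(Spec (CommRingCat.of A), U.1) :=
      IsLocallyNoetherian.component_noetherian U
    exact IsNoetherian.noetherian _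
  set I := BlowUp.exceptional b 𝓜 with hI
  set ι := I.subschemeι
  set φ := IsLocalRing.residue A
  let res := Spec.map (CommRingCat.ofHom φ)
  haveI : IsClosedImmersion res := IsClosedImmersion.spec_of_surjective _ IsLocalRing.residue_surjective
  let p := ProjSpace.BaseChange.projMap 1 φ
  have hpb := ProjSpace.BaseChange.isPullback_projMap 1 φ
  haveI : IsClosedImmersion p := MorphismProperty.of_isPullback hpb.flip inferInstance
  have hres : res.ker ≤ (ι ≫ b).ker := by
    haveI := PointBlow85.isRegularLocalRing_top A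
    have h1 : res.ker ≤ 𝓜 := by
      refine Scheme.IdealSheafData.le_of_isAffine ?_
      rw [PointBlow85.idealSheaf_maximal_top, Scheme.Hom.ker_apply]
      haveI : Nontrivial Γ(Spec (CommRingCat.of (ResidueField A)), res ⁻¹ᵁ ⊤) :=
        (Scheme.ΓSpecIso (CommRingCat.of (ResidueField A))).commRingCatIsoToRingEquiv.toEquiv.nontrivial
      exact IsLocalRing.le_maximalIdeal (RingHom.ker_ne_top _)
    refine h1.trans ?_
    exact Scheme.IdealSheafData.le_map_comap _ b
  let t := IsClosedImmersion.lift res (ι ≫ b) hres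
  have ht : t ≫ res = ι ≫ b := IsClosedImmersion.lift_fac _ _ _
  have w : (ι ≫ r) ≫ CohB1.ProjSpace.toSpec 1 A = t ≫ res := by rw [Category.assoc, hrb, ht]
  let h := hpb.lift (ι ≫ r) t w
  have hp : h ≫ p = ι ≫ r := hpb.lift_fst _ _ _
  haveI : IsClosedImmersion (h ≫ p) := hp.symm ▸ inferInstance
  haveI : IsClosedImmersion h := IsClosedImmersion.of_comp h p
  haveI : IsIntegral (CohB1.ProjSpace 1 (ResidueField A)) := ProjSpace.Basic.isIntegral_projSpace 1 (ResidueField A)
  -- `E` fills the projective line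
  haveI : Surjective h := by
    set s : (Spec (CommRingCat.of A) : Scheme.{u}) := IsLocalRing.closedPoint A with hs
    have hrange : Set.range ι = b ⁻¹' {s} := by
      rw [Scheme.IdealSheafData.range_subschemeι]
      exact Flat55.ContractionFibre.fibre_eq
    obtain ⟨hirr, -⟩ := Flat55.ContractionFibre.fibre_spec hA hb
    have hc := h.isClosedEmbedding.isClosed_range
    have hirr' : IsIrreducible (Set.range ι) := hrange ▸ hirr
    have hEirr : IsIrreducible (Set.univ : Set I.subscheme) := by
      refine ⟨?_, ?_⟩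
      · obtain ⟨_, e, rfl⟩ := hirr'.nonempty
        exact ⟨e, trivial⟩
      · intro U V hU hV ⟨x, _, hx⟩ ⟨y, _, hy⟩
        obtain ⟨U', hU', rfl⟩ := ι.isClosedEmbedding.isInducing.isOpen_iff.mp hU
        obtain ⟨V', hV', rfl⟩ := ι.isClosedEmbedding.isInducing.isOpen_iff.mp hV
        obtain ⟨_, ⟨e, rfl⟩, he⟩ := hirr'.2 U' V' hU' hV' ⟨ι x, ⟨x, rfl⟩, hx⟩ ⟨ι y, ⟨y, rfl⟩, hy⟩
        exact ⟨e, trivial, he⟩
    have hQ : IsIrreducible (Set.range h) := by
      rw [← Set.image_univ]; exact hEirr.image h h.continuous.continuousOn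
    obtain ⟨ξ, hξ⟩ := QuasiSober.sober hQ hc
    by_cases hgen : ξ = genericPoint (CohB1.ProjSpace 1 (ResidueField A))
    · refine ⟨fun z => ?_⟩
      have : z ∈ Set.range h := by
        rw [← hξ.def, hgen, (genericPoint_spec _).def]; trivial
      exact this
    exfalso
    have hone : ∀ z ∈ Set.range h, z = ξ := by
      intro z hz
      by_contra hne
      have hd : topologicalKrullDim (CohB1.ProjSpace 1 (ResidueField A)) ≤ 1 :=
        (ProjSpace.Dim.topologicalKrullDim_projSpace_of_field 1 (ResidueField A)).le.trans (by norm_num)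
      have h1 := Order.coheight_add_one_le (lt_of_spec (genericPoint_specializes ξ) (Ne.symm hgen))
      have h2 := Order.coheight_add_one_le (lt_of_spec (hξ.specializes hz) (Ne.symm hne))
      have h4 : (2 : ℕ∞) ≤ Order.coheight z :=
        calc (2 : ℕ∞) = 0 + 1 + 1 := by norm_num
          _ ≤ Order.coheight (genericPoint (CohB1.ProjSpace 1 (ResidueField A))) + 1 + 1 := by gcongr; exact zero_le
          _ ≤ Order.coheight ξ + 1 := by gcongr
          _ ≤ Order.coheight z := h2
      have h5 := (WithBot.coe_le_coe.mpr h4).trans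
        ((SmoothCurve.Stalk.coheight_le_topologicalKrullDim z).trans hd)
      norm_cast at h5
    haveI : IsRegularLocalRing ((Spec (CommRingCat.of A)).presheaf.stalk s) :=
      PointBlow85.isRegularLocalRing_stalk_spec s
    have hds : ringKrullDim ((Spec (CommRingCat.of A)).presheaf.stalk s) = 2 := by
      letI : Algebra A ↑((Spec (CommRingCat.of A)).presheaf.stalk s) := StructureSheaf.stalkAlgebra A s
      haveI : IsLocalization.AtPrime (↑((Spec (CommRingCat.of A)).presheaf.stalk s)) s.asIdeal :=
        StructureSheaf.IsLocalization.to_stalk A s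
      rw [IsLocalization.AtPrime.ringKrullDim_eq_height s.asIdeal, hs]
      exact IsLocalRing.maximalIdeal_height_eq_ringKrullDim.trans hA
    refine fibre_not_subsingleton b s (IsLocalRing.isClosed_singleton_closedPoint A) ?_ hds
      (idealSheaf_eq_vanishingIdeal (A := A) s hs (IsLocalRing.isClosed_singleton_closedPoint A) ▸ hb) fun q q' hq hq' => ?_
    · intro he
      have h0 : (Order.coheight (genericPoint (Spec (CommRingCat.of A)) : Spec (CommRingCat.of A)) : ℕ∞) = 0 :=
        Order.coheight_eq_zero.mpr fun z _ => genericPoint_specializes z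
      rw [ringKrullDim_stalk_eq_coheight, he, h0] at hds
      exact absurd hds (by decide)
    · obtain ⟨e, rfl⟩ : q ∈ Set.range ι := hrange ▸ hq
      obtain ⟨e', rfl⟩ : q' ∈ Set.range ι := hrange ▸ hq'
      exact congrArg ι (h.isClosedEmbedding.injective
        ((hone _ ⟨e, rfl⟩).trans (hone _ ⟨e', rfl⟩).symm))
  haveI : IsIso h := isIso_of_isClosedImmersion_of_surjective h
  refine ⟨asIso h, ?_⟩
  show h ≫ CohB1.ProjSpace.toSpec 1 (ResidueField A) ≫ res = ι ≫ b
  rw [← Category.assoc, show h ≫ CohB1.ProjSpace.toSpec 1 (ResidueField A) = t from hpb.lift_snd _ _ _]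
  exact ht

end

/-- The exceptional divisor of a point blow-up is the projective line over the residue field. -/
theorem exists_iso {Y Y' : Scheme.{u}} [IsLocallyNoetherian Y] (π : Y' ⟶ Y) (y : Y) (hy : IsClosed ({y} : Set Y))
    [IsRegularLocalRing (Y.presheaf.stalk y)] (hdim : ringKrullDim (Y.presheaf.stalk y) = 2)
    (hπ : BlowUp.IsBlowUp π (Scheme.IdealSheafData.vanishingIdeal ⟨{y}, hy⟩)) :
    ∃ e : CohB1.ProjSpace 1 (Y.residueField y) ≅
        (BlowUp.exceptional π (Scheme.IdealSheafData.vanishingIdeal ⟨{y}, hy⟩)).subscheme,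
      e.hom ≫ (BlowUp.exceptional π (Scheme.IdealSheafData.vanishingIdeal ⟨{y}, hy⟩)).subschemeι ≫ π =
        CohB1.ProjSpace.toSpec 1 (Y.residueField y) ≫ Y.fromSpecResidueField y := by
  set J := Scheme.IdealSheafData.vanishingIdeal (⟨{y}, hy⟩ : TopologicalSpace.Closeds Y) with hJ
  set j := Y.fromSpecStalk y
  haveI : Flat j := Unram.BaseChangeNhd.flat_fromSpecStalk y
  set P := pullback.fst j π
  set Q := pullback.snd j π
  have hb := Ideal.BlowUp.isBlowUp_flat_baseChange j hπ
  rw [Flat55.ContractionUniversal.comap_vanishingIdeal_stalk] at hb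
  set EW := BlowUp.exceptional P (Curv2.idealSheaf (Y.presheaf.stalk y) (maximalIdeal _)) with hEW
  set E := BlowUp.exceptional π J with hE
  have hEQ : EW = E.comap Q := by
    rw [hEW, hE, BlowUp.exceptional, BlowUp.exceptional,
      ← Flat55.ContractionUniversal.comap_vanishingIdeal_stalk y hy,
      ← Scheme.IdealSheafData.comap_comp, ← Scheme.IdealSheafData.comap_comp, pullback.condition]
  -- the exceptional divisor maps to the local scheme
  haveI : IsClosedImmersion (Y.fromSpecResidueField y) := isClosed_singleton_iff_isClosedImmersion.mp hy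
  have hker : (Y.fromSpecResidueField y).ker ≤ (E.subschemeι ≫ π).ker := by
    have h1 : (Y.fromSpecResidueField y).ker ≤ J := by
      rw [hJ, ← Scheme.IdealSheafData.le_support_iff_le_vanishingIdeal, ← SetLike.coe_subset_coe,
        Scheme.Hom.support_ker, Scheme.range_fromSpecResidueField]
      exact subset_closure
    exact h1.trans (Scheme.IdealSheafData.le_map_comap J π)
  let t := IsClosedImmersion.lift (Y.fromSpecResidueField y) (E.subschemeι ≫ π) hker
  have ht : t ≫ Y.fromSpecResidueField y = E.subschemeι ≫ π := IsClosedImmersion.lift_fac _ _ _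
  let σ : E.subscheme ⟶ pullback j π := pullback.lift (t ≫ Spec.map (Y.residue y)) E.subschemeι (by
    rw [Category.assoc, ← ht]; rfl)
  have hσ : σ ≫ Q = E.subschemeι := pullback.lift_snd _ _ _
  have hfwd : EW.subschemeι.ker ≤ σ.ker := by
    rw [Scheme.IdealSheafData.ker_subschemeι, hEQ, ← Scheme.IdealSheafData.map_bot,
      Scheme.IdealSheafData.le_map_iff_comap_le, ← Scheme.IdealSheafData.comap_comp, hσ,
      ← Scheme.IdealSheafData.le_map_iff_comap_le, Scheme.IdealSheafData.map_bot,
      Scheme.IdealSheafData.ker_subschemeι]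
  let a := IsClosedImmersion.lift EW.subschemeι σ hfwd
  have ha : a ≫ EW.subschemeι = σ := IsClosedImmersion.lift_fac _ _ _
  have hbwd : E.subschemeι.ker ≤ (EW.subschemeι ≫ Q).ker := by
    rw [Scheme.IdealSheafData.ker_subschemeι, ← Scheme.IdealSheafData.map_bot,
      Scheme.IdealSheafData.le_map_iff_comap_le, Scheme.IdealSheafData.comap_comp, ← hEQ,
      ← Scheme.IdealSheafData.le_map_iff_comap_le, Scheme.IdealSheafData.map_bot,
      Scheme.IdealSheafData.ker_subschemeι]
  let c := IsClosedImmersion.lift E.subschemeι (EW.subschemeι ≫ Q) hbwd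
  have hc : c ≫ E.subschemeι = EW.subschemeι ≫ Q := IsClosedImmersion.lift_fac _ _ _
  have hac : a ≫ c = 𝟙 _ := by
    rw [← cancel_mono E.subschemeι, Category.assoc, hc, ← Category.assoc, ha, hσ, Category.id_comp]
  have hca : c ≫ a = 𝟙 _ := by
    rw [← cancel_mono EW.subschemeι, ← cancel_mono Q, Category.id_comp, Category.assoc, Category.assoc,
      ← Category.assoc a, ha, hσ, hc]
  obtain ⟨hW, hWc⟩ : ∃ h : EW.subscheme ≅ CohB1.ProjSpace 1 (ResidueField (Y.presheaf.stalk y)),
      h.hom ≫ CohB1.ProjSpace.toSpec 1 (ResidueField (Y.presheaf.stalk y)) ≫ Spec.map (CommRingCat.ofHom (IsLocalRing.residue (Y.presheaf.stalk y))) =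
        EW.subschemeι ≫ P := @local_iso (Y.presheaf.stalk y) _ _ _ _ hdim hb
  refine ⟨hW.symm ≪≫ ⟨c, a, hca, hac⟩, ?_⟩
  show (hW.inv ≫ c) ≫ E.subschemeι ≫ π = _
  rw [Category.assoc, ← Category.assoc c, hc, Category.assoc, show Q ≫ π = P ≫ j from pullback.condition.symm,
    ← Category.assoc EW.subschemeι, ← hWc, Category.assoc, Category.assoc, Iso.inv_hom_id_assoc]
  rfl

end Groth.Agent.Lib.PointExc74
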