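import Groth.Agent.Lib.PointExc74.Iso
import Groth.Agent.Lib.ModelFibre.P1Curve
import Groth.Agent.Lib.Amp36.Modif.Birat

/-!
# The blow-up of an arithmetic surface in a closed point of its closed fibre
-/

set_option autoImplicit false
set_option linter.style.haveILetI false
universe u

open AlgebraicGeometry CategoryTheory CategoryTheory.Limits TopologicalSpace
open ArSurf Groth.Agent.Lib Groth.Agent.Lib.ModelFibre

namespace Groth.Agent.Lib.PointExc74

/-- A reduced closed subscheme is determined by its support. -/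
theorem ker_eq {W X : Scheme.{u}} [IsReduced W] (i : W ⟶ X) [IsClosedImmersion i] :
    i.ker = Scheme.IdealSheafData.vanishingIdeal ⟨Set.range i, i.isClosedEmbedding.isClosed_range⟩ := by
  have h := Scheme.IdealSheafData.map_vanishingIdeal i ⊤
  rw [Scheme.IdealSheafData.vanishingIdeal_top, Scheme.nilradical_eq_bot,
    Scheme.IdealSheafData.map_bot] at h
  rw [h]
  refine congrArg _ (Closeds.ext ?_)
  show closure (i '' Set.univ) = Set.range i
  rw [Set.image_univ, i.isClosedEmbedding.isClosed_range.closure_eq]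

theorem exists_same {W W' X : Scheme.{u}} [IsReduced W] [IsReduced W'] (i : W ⟶ X) [IsClosedImmersion i]
    (i' : W' ⟶ X) [IsClosedImmersion i'] (h : Set.range i = Set.range i') :
    i.ker = i'.ker ∧ ∃ c : W ≅ W', c.hom ≫ i' = i := by
  have hk : i.ker = i'.ker := by
    rw [ker_eq i, ker_eq i']
    exact congrArg _ (Closeds.ext h)
  let a := IsClosedImmersion.lift i' i hk.ge
  let b := IsClosedImmersion.lift i i' hk.le
  have ha : a ≫ i' = i := IsClosedImmersion.lift_fac _ _ _
  have hb : b ≫ i = i' := IsClosedImmersion.lift_fac _ _ _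
  refine ⟨hk, ⟨a, b, ?_, ?_⟩, ha⟩
  · rw [← cancel_mono i, Category.assoc, hb, ha, Category.id_comp]
  · rw [← cancel_mono i', Category.assoc, ha, hb, Category.id_comp]

/-- The blown-up surface and the exceptional curve as a scheme over the point. -/
theorem setup (R : Type u) [CommRing R] [IsDomain R] [IsDiscreteValuationRing R]
    (Y : Over (Spec (CommRingCat.of R))) (hY : ArSurf.IsArithSurface R Y)
    (y : Y.left) (hy : IsClosed ({y} : Set Y.left)) (hys : Y.hom.base y = IsLocalRing.closedPoint R)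
    {X : Scheme.{u}} (f : X ⟶ Y.left)
    (hf : BlowUp.IsBlowUp f (Scheme.IdealSheafData.vanishingIdeal ⟨{y}, hy⟩))
    (E : ArSurf.VertComp R (Over.mk (f ≫ Y.hom)))
    (hE : Set.range (E.ι.base : E.curve.left → X) = f.base ⁻¹' {y}) :
    Inter.IsSurf (Over.mk (f ≫ Y.hom)) ∧ IsProper f ∧ y ≠
      (haveI := (Inter.IsSurf.of_isArithSurface hY).isIntegral; genericPoint Y.left) ∧
      ringKrullDim (Y.left.presheaf.stalk y) = 2 ∧
      IsIso (f ∣_ (⟨{y}ᶜ, hy.isOpen_compl⟩ : Y.left.Opens)) ∧
      Models.IsExcCurve E.ι ∧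
      ∃ e : CohB1.ProjSpace 1 (Y.left.residueField y) ≅ E.curve.left,
        e.hom ≫ E.ι ≫ f = CohB1.ProjSpace.toSpec 1 (Y.left.residueField y) ≫ Y.left.fromSpecResidueField y := by
  classical
  have hS := Inter.IsSurf.of_isArithSurface hY
  haveI := hS.isIntegral
  haveI := hS.isProper
  haveI := hS.flat
  haveI : IsLocallyNoetherian Y.left := LocallyOfFiniteType.isLocallyNoetherian Y.hom
  haveI : CompactSpace Y.left := QuasiCompact.compactSpace_of_compactSpace Y.hom
  have hgenY : genericPoint Y.left ∉ Models.specialFibreSet R Y := Inter.genericPoint_not_mem hS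
  have hyη : y ≠ genericPoint Y.left := fun h => hgenY (h ▸ hys)
  set J := Scheme.IdealSheafData.vanishingIdeal (⟨{y}, hy⟩ : TopologicalSpace.Closeds Y.left) with hJ
  have hsupp : (J.support : Set Y.left) = {y} := by
    rw [hJ, Scheme.IdealSheafData.coe_support_vanishingIdeal]; rfl
  have hJne : J ≠ ⊥ := by
    intro h
    have : (J.support : Set Y.left) = Set.univ := by rw [h]; simp
    rw [hsupp] at this
    exact hyη (Set.mem_singleton_iff.mp (this.ge (Set.mem_univ (genericPoint Y.left)))).symm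
  obtain ⟨hXi, -, -⟩ := Groth.Agent.S2348.result J hJne f hf
  haveI := hXi
  haveI : IsProper f := BlowUpExists.isProper_of_isBlowUp hf fun U => by
    haveI : IsNoetherianRing Γ(Y.left, U.1) := IsLocallyNoetherian.component_noetherian U
    exact IsNoetherian.noetherian _
  haveI : IsLocallyNoetherian X := LocallyOfFiniteType.isLocallyNoetherian f
  set Ω : Y.left.Opens := ⟨{y}ᶜ, hy.isOpen_compl⟩
  have hΩ : J.support.compl = Ω := TopologicalSpace.Opens.ext (by
    show (J.support : Set Y.left)ᶜ = ({y} : Set Y.left)ᶜ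
    rw [hsupp])
  haveI hΩiso : IsIso (f ∣_ Ω) := hΩ ▸ Ideal.BlowUp.isIso_off_center hf
  have hΩne : (Ω : Set Y.left).Nonempty := ⟨genericPoint Y.left, Ne.symm hyη⟩
  obtain ⟨hfgen, hfbij⟩ := ZMTStein.generic_of_isIso_restrict f Ω hΩne hΩiso
  have hd2 : topologicalKrullDim Y.left ≤ 2 := hY.2.2.1.le
  haveI := hS.reg y
  obtain ⟨e₁, e₂, he12⟩ : ∃ a b : E.curve.left, a ≠ b := by
    by_contra h
    push Not at h
    haveI : Subsingleton E.curve.left := ⟨h⟩
    have h0 : topologicalKrullDim E.curve.left ≤ 0 := by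
      rw [show topologicalKrullDim E.curve.left = Order.krullDim E.curve.left from
        Order.krullDim_eq_of_orderIso (irreducibleSetEquivPoints (α := E.curve.left))]
      exact Order.krullDim_nonpos_of_subsingleton
    rw [E.dim_eq] at h0
    exact absurd h0 (by decide)
  have hfE : ∀ a, f (E.ι a) = y := fun a => hE.le ⟨a, rfl⟩
  have hdim : ringKrullDim (Y.left.presheaf.stalk y) = 2 := by
    obtain ⟨x₀, hx₀⟩ : ∃ x, f x = y := ⟨E.ι e₁, hfE e₁⟩
    haveI := hS.reg (f x₀)
    rw [← hx₀]
    refine SurfFactor85.Iso.ringKrullDim_stalk_eq_two f ⟨Ω, hΩne, hΩiso⟩ hd2 x₀ fun U hU hiso => he12 ?_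
    haveI := hiso
    apply E.ι.isClosedEmbedding.injective
    have hmem : ∀ a, E.ι a ∈ f ⁻¹ᵁ U := fun a => by
      show f (E.ι a) ∈ U
      rw [hfE a, ← hx₀]; exact hU
    have h1 : (f ∣_ U) ⟨E.ι e₁, hmem e₁⟩ = (f ∣_ U) ⟨E.ι e₂, hmem e₂⟩ := by
      apply U.ι.isOpenEmbedding.injective
      have key : ∀ z, U.ι ((f ∣_ U) z) = f z.1 := fun z => congr($(morphismRestrict_ι f U) z)
      exact (key ⟨E.ι e₁, hmem e₁⟩).trans ((hfE e₁).trans ((hfE e₂).symm.trans (key ⟨E.ι e₂, hmem e₂⟩).symm))
    exact congrArg Subtype.val ((f ∣_ U).homeomorph.injective h1)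
  have hXreg : ∀ p : X, IsRegularLocalRing (X.presheaf.stalk p) := fun p => by
    by_cases hp : f p = y
    · exact SurfFactor85.Iso.isRegularLocalRing_blowUp_stalk f y hy hdim hf p hp
    · haveI := SurfFactor85.Iso.isIso_stalkMap_of_restrict f Ω p hp
      haveI := hS.reg (f p)
      exact IsRegularLocalRing.of_ringEquiv
        (RingEquiv.ofBijective (f.stalkMap p).hom (ConcreteCategory.bijective_of_isIso _))
  have hSX : Inter.IsSurf (Over.mk (f ≫ Y.hom)) := by
    refine ⟨hXi, inferInstanceAs (IsProper (f ≫ Y.hom)), ?_, hXreg,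
      fun z => Amp36.Modif.Birat.ringKrullDim_stalk_le f Ω hΩne 2 hd2 z⟩
    show Flat (f ≫ Y.hom)
    rw [HasRingHomProperty.iff_of_iSup_eq_top (P := @Flat) (fun U : X.affineOpens => U) (iSup_affineOpens_eq_top X)]
    intro U
    have : Nonempty X := ⟨genericPoint X⟩
    by_cases hU : (U.1 : Set X).Nonempty
    swap
    · haveI : Subsingleton Γ(X, U.1) := by
        have h0 : U.1 = ⊥ := TopologicalSpace.Opens.ext (by simpa using Set.not_nonempty_iff_eq_empty.1 hU)
        rw [h0]; infer_instance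
      letI := (Scheme.Hom.appLE (f ≫ Y.hom) ⊤ U.1 (by simp)).hom.toAlgebra
      show Module.Flat _ _
      exact Module.Flat.of_free
    haveI : Nonempty U.1 := hU.to_subtype
    let ψ : R →+* Γ(X, U.1) := ((X.presheaf.map (homOfLE le_top).op).hom).comp (Coh.toGlobal (f ≫ Y.hom))
    have hψ : Function.Injective ψ := by
      rw [RingHom.injective_iff_ker_eq_bot, eq_bot_iff]
      intro r hr
      rw [RingHom.mem_ker] at hr
      by_contra hr0
      have hηU : genericPoint X ∈ U.1 := ((genericPoint_spec X).mem_open_set_iff U.1.2).2 (by simpa using hU)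
      have h1 : Stalk.baseHom (f ≫ Y.hom) (genericPoint X) r = 0 := by
        show (X.presheaf.germ ⊤ (genericPoint X) trivial).hom (Coh.toGlobal (f ≫ Y.hom) r) = 0
        refine (TopCat.Presheaf.germ_res_apply X.presheaf (homOfLE (le_top : U.1 ≤ ⊤)) (genericPoint X) hηU _).symm.trans ?_
        exact (congrArg _ hr).trans (map_zero _)
      have h2 : (f.stalkMap (genericPoint X)).hom (Stalk.baseHom Y.hom (f (genericPoint X)) r) =
          Stalk.baseHom (f ≫ Y.hom) (genericPoint X) r := by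
        show (f.stalkMap (genericPoint X)).hom ((Y.left.presheaf.germ ⊤ _ trivial).hom (Coh.toGlobal Y.hom r)) = _
        exact (Scheme.Hom.germ_stalkMap_apply f ⊤ (genericPoint X) trivial _).trans rfl
      have h3 : Stalk.baseHom Y.hom (f (genericPoint X)) r = 0 :=
        hfbij.1 (h2.trans (h1.trans (map_zero _).symm))
      have hreg := Chart.isSMulRegular_baseHom Y.hom (f (genericPoint X)) (IsRegular.of_ne_zero hr0)
      exact one_ne_zero (hreg (a₁ := (1 : Y.left.presheaf.stalk _)) (a₂ := 0) (by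
        show Stalk.baseHom Y.hom _ r • _ = Stalk.baseHom Y.hom _ r • _
        rw [h3]; simp))
    have hflat : ψ.Flat := by
      letI := ψ.toAlgebra
      haveI : Module.IsTorsionFree R Γ(X, U.1) :=
        Module.IsTorsionFree.comap ψ (fun r hr => hr.ne_zero |> fun h =>
          IsRegular.of_ne_zero fun h0 => h (hψ (h0.trans (map_zero ψ).symm))) fun _ _ => rfl
      show Module.Flat R Γ(X, U.1)
      infer_instance
    have heq : (Scheme.Hom.appLE (f ≫ Y.hom) ⊤ U.1 (by simp)).hom =
        ψ.comp (Scheme.ΓSpecIso (CommRingCat.of R)).hom.hom := by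
      ext r
      show _ = (X.presheaf.map _).hom ((f ≫ Y.hom).appTop.hom ((Scheme.ΓSpecIso (CommRingCat.of R)).inv.hom ((Scheme.ΓSpecIso (CommRingCat.of R)).hom.hom r)))
      rw [Iso.hom_inv_id_apply]
      rfl
    show (Scheme.Hom.appLE (f ≫ Y.hom) ⊤ U.1 _).hom.Flat
    rw [heq]
    exact RingHom.Flat.comp
      (RingHom.Flat.of_bijective (ConcreteCategory.bijective_of_isIso (Scheme.ΓSpecIso (CommRingCat.of R)).hom)) hflat
  set EX := BlowUp.exceptional f J with hEX
  obtain ⟨e₀, he₀⟩ : ∃ e₀ : CohB1.ProjSpace 1 (Y.left.residueField y) ≅ EX.subscheme,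
      e₀.hom ≫ EX.subschemeι ≫ f = CohB1.ProjSpace.toSpec 1 (Y.left.residueField y) ≫ Y.left.fromSpecResidueField y :=
    PointExc74.exists_iso f y hy hdim hf
  haveI : IsReduced EX.subscheme := isReduced_of_isOpenImmersion e₀.inv
  haveI : IsReduced E.curve.left := inferInstance
  obtain ⟨hker, c, hc⟩ := exists_same E.ι EX.subschemeι (by
    rw [Scheme.IdealSheafData.range_subschemeι, hEX, BlowUp.exceptional, Scheme.IdealSheafData.support_comap,
      TopologicalSpace.Closeds.coe_preimage, hsupp]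
    exact hE)
  obtain ⟨hcart, k, hk, e', ⟨φ⟩⟩ := SurfFactor85.Seq.isExcCurve f y hy hdim hf
  have hexc : Models.IsExcCurve E.ι := by
    refine ⟨hker ▸ hcart, k, hk, e' ≪≫ c.symm, ⟨?_⟩⟩
    have hcomp : (e' ≪≫ c.symm).hom ≫ E.ι = e'.hom ≫ EX.subschemeι := by
      rw [← hc, Iso.trans_hom, Category.assoc, Iso.symm_hom, Iso.inv_hom_id_assoc]
    exact (Scheme.Modules.pullbackCongr hcomp).app _ ≪≫
      (Scheme.Modules.pullback _).mapIso (eqToIso (by rw [hker])) ≪≫ φ
  refine ⟨hSX, inferInstance, hyη, hdim, hΩiso, hexc, e₀ ≪≫ c.symm, ?_⟩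
  rw [← he₀, ← hc]
  show (e₀.hom ≫ c.inv) ≫ (c.hom ≫ EX.subschemeι) ≫ f = _
  simp only [Category.assoc, Iso.inv_hom_id_assoc]

end Groth.Agent.Lib.PointExc74
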